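import Cfsg.Agent.H651.Two.Base
import Cfsg.Agent.S0953
import Cfsg.Agent.S4663
import Cfsg.Agent.H644.Trace
import Cfsg.Agent.H644.Pairs
import Cfsg.Agent.H646.DefectBasic

/-!
# Three characters of degree divisible by `p` from a non-principal block of `C(Q)` (helper299)

* `three_le_of_nonprincipal` : `C(P)` has no `p'`-element `≠ 1` for `P` Sylow, `Q` a `p`-subgroup of order at least
  three, `C(Q)` has a non-principal block: `3 ≤ ND p G`. (Any prime `p`, also `p = 2`.)
* `ne_principal` : `θ ∈ Irr X`, `θ x = 0` for an element `x` with class of order prime to `p`: the block of `θ` is not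
  principal.
* `three_le_of_zero` : both together.
-/

set_option autoImplicit false

open Cfsg

namespace Cfsg.Agent.H299.Two

open Cfsg.Agent.H651.Two Cfsg.Agent.H33 Subgroup
open Cfsg.Agent.Blocks.Basic Cfsg.Agent.Blocks.Local

universe u v

variable {G : Type u} [Group G] [Finite G] {p : ℕ} [hp : Fact p.Prime] {M : Ideal AlgInt}

/-- the principal character -/
theorem one_irr (X : Type u) [Group X] : IsIrrCharacter X (fun _ : X => (1 : ℂ)) :=
  Cfsg.Agent.Characters.Core.isIrr_one

omit hp in
theorem mem_principal (hM : IsPModular p M) (X : Type u) [Group X] [Finite X] :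
    (⟨fun _ => 1, one_irr X⟩ : IrrCharacter X) ∈ principalBlock M X := by
  have : M.IsPrime := isPrime_of_isPModular hM
  intro g
  rw [sub_self]
  exact memLocalIdeal_zero

/-- A `p`-block of full defect is principal if `C(P)` has no `p'`-elements. -/
theorem eq_principal (hM : IsPModular p M) (P : Sylow p G)
    (hCP : ∀ y ∈ centralizer ((P : Subgroup G) : Set G), ¬ p ∣ orderOf y → y = 1)
    {B : Set (IrrCharacter G)} (hB : IsPBlock M B) (hD : IsDefectGroup p M B (P : Subgroup G)) :
    B = principalBlock M G := by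
  have hMp : M.IsPrime := isPrime_of_isPModular hM
  have h0 : IsPBlock M (principalBlock M G) := ⟨⟨fun _ => 1, one_irr G⟩, rfl⟩
  have hdeg : ¬ p ∣ charDegree ((⟨fun _ => 1, one_irr G⟩ : IrrCharacter G) : G → ℂ) := by
    have h1 : charDegree ((⟨fun _ => 1, one_irr G⟩ : IrrCharacter G) : G → ℂ) = 1 := by
      refine H670.PSing.charDegree_eq_of ?_
      simp
    rw [h1]
    exact fun h => hp.out.one_lt.ne' (Nat.dvd_one.1 h)
  have h2 : IsDefectGroup p M (principalBlock M G) (P : Subgroup G) :=
    (H646.DefectBasic.isDefectGroup_iff_sylow hM h0 (mem_principal hM G) hdeg _).2 ⟨P, rfl⟩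
  have h3 := S0953.result p M hM P
  have hsub : Subsingleton {C : ConjClasses (Subgroup.normalizer ((P : Subgroup G) : Set G)) //
      ∀ n : Subgroup.normalizer ((P : Subgroup G) : Set G), ConjClasses.mk n = C →
        ¬ p ∣ orderOf n ∧ (n : G) ∈ Subgroup.centralizer ((P : Subgroup G) : Set G)} := by
    refine ⟨fun C D => Subtype.ext ?_⟩
    have key : ∀ C : {C : ConjClasses (Subgroup.normalizer ((P : Subgroup G) : Set G)) //
      ∀ n : Subgroup.normalizer ((P : Subgroup G) : Set G), ConjClasses.mk n = C →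
        ¬ p ∣ orderOf n ∧ (n : G) ∈ Subgroup.centralizer ((P : Subgroup G) : Set G)},
        C.1 = ConjClasses.mk 1 := by
      rintro ⟨C, hC⟩
      obtain ⟨n, rfl⟩ := ConjClasses.exists_rep C
      obtain ⟨h4, h5⟩ := hC n rfl
      have h6 : (n : G) = 1 := hCP _ h5 (by rwa [Subgroup.orderOf_coe])
      have h7 : n = 1 := Subtype.ext h6
      exact congrArg ConjClasses.mk h7
    rw [key C, key D]
  have hle : Nat.card {B : Set (IrrCharacter G) // IsPBlock M B ∧ IsDefectGroup p M B (P : Subgroup G)} ≤ 1 := by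
    rw [h3]
    exact Finite.card_le_one_iff_subsingleton.2 hsub
  have hfin : Finite (IrrCharacter G) := Cfsg.Agent.Characters.Core.finite_irr
  have hs : Subsingleton {B : Set (IrrCharacter G) // IsPBlock M B ∧ IsDefectGroup p M B (P : Subgroup G)} :=
    Finite.card_le_one_iff_subsingleton.1 hle
  exact congrArg Subtype.val (hs.elim ⟨B, hB, hD⟩ ⟨principalBlock M G, h0, h2⟩)

theorem cond_conj {P S : Sylow p G}
    (hCP : ∀ y ∈ centralizer ((P : Subgroup G) : Set G), ¬ p ∣ orderOf y → y = 1) :
    ∀ y ∈ centralizer ((S : Subgroup G) : Set G), ¬ p ∣ orderOf y → y = 1 := by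
  obtain ⟨g, rfl⟩ := MulAction.exists_smul_eq G P S
  intro y hy hyp
  have h1 : g⁻¹ * y * g ∈ centralizer ((P : Subgroup G) : Set G) := by
    rw [mem_centralizer_iff] at hy ⊢
    intro x hx
    have h2 : g * x * g⁻¹ ∈ ((g • P : Sylow p G) : Subgroup G) := by
      rw [Sylow.coe_subgroup_smul]
      exact smul_mem_pointwise_smul x (MulAut.conj g) (P : Subgroup G) hx
    have h3 := hy _ h2
    calc x * (g⁻¹ * y * g) = g⁻¹ * (g * x * g⁻¹ * y) * g := by group
      _ = g⁻¹ * (y * (g * x * g⁻¹)) * g := by rw [h3]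
      _ = _ := by group
  have h2 : orderOf (g⁻¹ * y * g) = orderOf y := by
    have := (MulAut.conj g⁻¹).orderOf_eq y
    rw [MulAut.conj_apply, inv_inv] at this
    exact this
  have h3 := hCP _ h1 (by rwa [h2])
  calc y = g * (g⁻¹ * y * g) * g⁻¹ := by group
    _ = 1 := by rw [h3]; group

/-- **A non-principal block of `C(Q)`, `|Q| ≥ 3`.** -/
theorem three_le_of_nonprincipal (P : Sylow p G)
    (hCP : ∀ y ∈ centralizer ((P : Subgroup G) : Set G), ¬ p ∣ orderOf y → y = 1)
    {Q : Subgroup G} (hQ : IsPGroup p Q) (h3 : 3 ≤ Nat.card Q)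
    (h : ∀ M : Ideal AlgInt, IsPModular p M →
      ∃ e : Set (IrrCharacter (centralizer (Q : Set G))), IsPBlock M e ∧
        e ≠ principalBlock M (centralizer (Q : Set G))) : 3 ≤ ND p G := by
  classical
  have := Fintype.ofFinite G
  obtain ⟨M, hM⟩ := Cfsg.Agent.Blocks.Knorr.exists_isPModular p
  have hMp : M.IsPrime := isPrime_of_isPModular hM
  obtain ⟨e, he, hne⟩ := h M hM
  obtain ⟨B, hB, -⟩ := H644.existsUnique_isBrauerPairOf hM (P := Q) (e := e) ⟨hQ, he⟩
  have hBne : B ≠ principalBlock M G := by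
    rintro rfl
    exact hne ((S4663.result p M hM Q hQ e he).1 hB)
  obtain ⟨D, hD, hQD⟩ := H644.exists_isDefectGroup_of_pair hM hB
  refine three_le_of_block hM hB.2.1 hD (h3.trans (Subgroup.card_le_of_le hQD)) ?_
  by_contra hidx
  have hDp : IsPGroup p D := isPGroup_of_isDefectGroup hD
  obtain ⟨S, hS⟩ : ∃ S : Sylow p G, (S : Subgroup G) = D := ⟨hDp.toSylow hidx, rfl⟩
  rw [← hS] at hD
  exact hBne (eq_principal hM S (cond_conj hCP) hB.2.1 hD)

/-- A character vanishing on a class of order prime to `p` is not in the principal block. -/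
theorem ne_principal (hM : IsPModular p M) {X : Type u} [Group X] [Finite X] (θ : IrrCharacter X)
    {x : X} (hx : ¬ p ∣ (centralizer ({x} : Set X)).index) (h0 : (θ : X → ℂ) x = 0) :
    blockOf M (θ : X → ℂ) ≠ principalBlock M X := by
  have hMp : M.IsPrime := isPrime_of_isPModular hM
  intro h
  have h1 := mem_principal hM X
  rw [← h] at h1
  have h2 := h1 x
  have h3 : centralChar (θ : X → ℂ) x = 0 := by
    unfold centralChar
    rw [h0]
    simp
  have h4 : centralChar ((⟨fun _ => 1, one_irr X⟩ : IrrCharacter X) : X → ℂ) x =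
      (((centralizer ({x} : Set X)).index : AlgInt) : ℂ) := by
    unfold centralChar
    simp
  rw [h3, h4, zero_sub, memLocalIdeal_neg_iff, memLocalIdeal_algInt_iff] at h2
  -- `p` and the index are coprime
  have hcop : Nat.Coprime p (centralizer ({x} : Set X)).index := (Nat.Prime.coprime_iff_not_dvd hp.out).2 hx
  have h5 : (1 : AlgInt) ∈ M := by
    have h6 := Nat.gcd_eq_gcd_ab p (centralizer ({x} : Set X)).index
    rw [hcop.gcd_eq_one] at h6
    have h7 : (1 : AlgInt) = (p : AlgInt) * (Nat.gcdA p (centralizer ({x} : Set X)).index : AlgInt) +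
        ((centralizer ({x} : Set X)).index : AlgInt) *
          (Nat.gcdB p (centralizer ({x} : Set X)).index : AlgInt) := by
      exact_mod_cast h6
    rw [h7]
    exact M.add_mem (M.mul_mem_right _ hM.2.2) (M.mul_mem_right _ h2)
  exact hMp.ne_top ((Ideal.eq_top_iff_one M).2 h5)

/-- **A character of `C(Q)` vanishing on a class of order prime to `p`.** -/
theorem three_le_of_zero (P : Sylow p G)
    (hCP : ∀ y ∈ centralizer ((P : Subgroup G) : Set G), ¬ p ∣ orderOf y → y = 1)
    {Q : Subgroup G} (hQ : IsPGroup p Q) (h3 : 3 ≤ Nat.card Q)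
    (θ : IrrCharacter (centralizer (Q : Set G))) {x : centralizer (Q : Set G)}
    (hx : ¬ p ∣ (centralizer ({x} : Set (centralizer (Q : Set G)))).index)
    (h0 : (θ : centralizer (Q : Set G) → ℂ) x = 0) : 3 ≤ ND p G :=
  three_le_of_nonprincipal P hCP hQ h3 fun _ hM => ⟨_, ⟨θ, rfl⟩, ne_principal hM θ hx h0⟩

/-- The same with a character of a quotient of `C(Q)`. -/
theorem three_le_of_hom (P : Sylow p G)
    (hCP : ∀ y ∈ centralizer ((P : Subgroup G) : Set G), ¬ p ∣ orderOf y → y = 1)
    {Q : Subgroup G} (hQ : IsPGroup p Q) (h3 : 3 ≤ Nat.card Q) {K : Type v} [Group K] [Finite K]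
    (f : centralizer (Q : Set G) →* K) (hf : Function.Surjective f) {χ : K → ℂ} (hχ : IsIrrCharacter K χ)
    {x : centralizer (Q : Set G)} (hx : ∀ y, f y * f x = f x * f y → y * x = x * y)
    (hi : ¬ p ∣ (centralizer ({f x} : Set K)).index) (h0 : χ (f x) = 0) : 3 ≤ ND p G := by
  refine three_le_of_zero P hCP hQ h3
    ⟨χ ∘ f, Cfsg.Agent.Characters.Core.isIrr_comp f hf hχ⟩ (x := x) ?_ h0
  have h1 : centralizer ({x} : Set (centralizer (Q : Set G))) = (centralizer ({f x} : Set K)).comap f := by
    ext y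
    rw [mem_comap, mem_centralizer_singleton_iff, mem_centralizer_singleton_iff]
    constructor
    · intro h
      rw [← map_mul, h, map_mul]
    · exact hx y
  rw [h1, index_comap_of_surjective _ hf]
  exact hi

/-- The centre of a Sylow subgroup: elements whose class has order prime to `p`. -/
theorem exists_center_sylow {K : Type v} [Group K] [Finite K] (hK : p ∣ Nat.card K) (T : Sylow p K) :
    ∃ s ∈ (T : Subgroup K), s ≠ 1 ∧ ¬ p ∣ (centralizer ({s} : Set K)).index := by
  have hT : (T : Subgroup K) ≠ ⊥ := T.ne_bot_of_dvd_card hK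
  have : Nontrivial (T : Subgroup K) := (Subgroup.nontrivial_iff_ne_bot _).2 hT
  have h1 := T.isPGroup'.center_nontrivial
  obtain ⟨⟨z, hz⟩, hz1⟩ := exists_ne (1 : center (T : Subgroup K))
  refine ⟨z, z.2, fun h => hz1 (Subtype.ext (Subtype.ext h)), ?_⟩
  have h2 : (T : Subgroup K) ≤ centralizer ({(z : K)} : Set K) := by
    intro t ht
    rw [mem_centralizer_singleton_iff]
    exact congrArg Subtype.val (mem_center_iff.1 hz ⟨t, ht⟩)
  intro h
  exact T.not_dvd_index (h.trans (index_dvd_of_le h2))

end Cfsg.Agent.H299.Two
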