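import Cfsg.Agent.H651.Two.Row
import Cfsg.Agent.H651.Two.Count
import Cfsg.Agent.H299.Two.Block
import Cfsg.Agent.H299.Two.SuzFam
import Cfsg.Agent.H812.SuzSeven
import Cfsg.Agent.H812.SuzFive
import Cfsg.Agent.H812.FullSuz
import Cfsg.Agent.H672.SporIM.RankRows
import Cfsg.Agent.S2544
import Cfsg.Agent.S2546
import Cfsg.Agent.S2074
import Cfsg.Agent.H852.IMJTwo
import Cfsg.Agent.KFacts.SuzLarge
import Cfsg.Agent.H717.SmallClass
import Cfsg.Agent.OddHalf.Table.OutSuz

/-!
# `Suz`: two characters of degree divisible by `p` (helper299)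
-/

set_option autoImplicit false

open Cfsg Subgroup

namespace Cfsg.Agent.H299.Two.Suz

open Cfsg.Agent.H651.Two Cfsg.Agent.H596.OneFacts Cfsg.Agent.H33
open Cfsg.Agent.H593.IMCyc Cfsg.Agent.KFacts.SuzLFour Cfsg.Agent.KFacts.SuzTwoB
open Cfsg.Spor (Suz)

universe u

theorem card_Suz : Nat.card Suz = 448345497600 := Cfsg.Agent.SporadicRecognition.SuzOrder.card_Suz

instance finSuz : Finite Suz := Nat.finite_of_card_ne_zero (by rw [card_Suz]; norm_num)

/-! ### `p = 2` -/

theorem centralizer_V : centralizer ((V : Subgroup Suz) : Set Suz) = VL := by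
  have he0 : e0 ∈ V := mem_V.2 (Or.inr (Or.inl rfl))
  have he1 : e1 ∈ V := mem_V.2 (Or.inr (Or.inr (Or.inl rfl)))
  have h1 : VL ≤ centralizer ((V : Subgroup Suz) : Set Suz) := by
    intro x hx
    rw [mem_centralizer_iff]
    intro v hv
    exact (VL_cent hx hv).symm
  have h2 : centralizer ((V : Subgroup Suz) : Set Suz) ≤ CE := by
    intro x hx
    exact mem_CE.2 ((mem_centralizer_iff.1 hx) e0 he0).symm
  have h3 : xe ∉ centralizer ((V : Subgroup Suz) : Set Suz) := by
    intro h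
    have h4 := (mem_centralizer_iff.1 h) e1 he1
    have h5 := xe_e1
    rw [← h4] at h5
    exact e12_ne (mul_right_cancel h5)
  have hidx : VL.relIndex CE = 2 := idx.1
  have hmul := relIndex_mul_relIndex VL _ CE h1 h2
  rw [hidx] at hmul
  have hne : (centralizer ((V : Subgroup Suz) : Set Suz)).relIndex CE ≠ 1 := by
    intro h
    exact h3 (relIndex_eq_one.1 h xe_mem)
  have hpos : VL.relIndex (centralizer ((V : Subgroup Suz) : Set Suz)) = 1 := by
    have hd : (centralizer ((V : Subgroup Suz) : Set Suz)).relIndex CE ∣ 2 := Dvd.intro_left _ hmul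
    have h7 := (Nat.dvd_prime Nat.prime_two).1 hd
    rcases h7 with h7 | h7
    · exact absurd h7 hne
    · rw [h7] at hmul
      omega
  exact le_antisymm (relIndex_eq_one.1 hpos) h1

theorem equiv_cent : Nonempty (centralizer ((V : Subgroup Suz) : Set Suz) ≃* ↥V × ↥L) := by
  rw [centralizer_V]
  refine H812.Prod.equiv_prod V L VL (fun a ha b hb => V_comm a ha b hb) (fun y hy hyL => V_cap_L hy hyL) ?_
  intro y
  rw [mem_VL]
  constructor
  · rintro ⟨v, hv, l, hl, rfl⟩; exact ⟨v, hv, l, hl, rfl⟩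
  · rintro ⟨v, hv, l, hl, rfl⟩; exact ⟨v, hv, l, hl, rfl⟩

theorem cent_sylow (P : Sylow 2 Suz) (hP : Cfsg.Agent.SuzThree.QZero.Q0 ≤ (P : Subgroup Suz)) :
    ∀ y ∈ centralizer ((P : Subgroup Suz) : Set Suz), ¬ 2 ∣ orderOf y → y = 1 := by
  intro y hy hy2
  rcases KFacts.SuzR.centralizer_R (g := y) (fun x hx => mem_centralizer_iff.1 hy x (hP hx)) with h | h
  · exact h
  · exfalso
    apply hy2
    have h1 : y ^ 2 = 1 := by rw [h, pow_two]; exact KFacts.SuzLarge.large.z_sq
    have h2 : y ≠ 1 := by rw [h]; exact KFacts.SuzLarge.large.z_ne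
    have : Fact (Nat.Prime 2) := ⟨Nat.prime_two⟩
    rw [orderOf_eq_prime h1 h2]

theorem nd_two : 3 ≤ ND 2 Suz := by
  have hp2 : Fact (Nat.Prime 2) := ⟨Nat.prime_two⟩
  have hQ0 : IsPGroup 2 Cfsg.Agent.SuzThree.QZero.Q0 := by
    intro x
    refine ⟨2, Subtype.ext ?_⟩
    show (x : Suz) ^ 2 ^ 2 = 1
    have h1 : (x : Suz) ^ 2 ^ 2 = (x * x) * (x * x) := by
      simp only [pow_succ, pow_zero, one_mul, mul_assoc]
      norm_num [pow_succ, mul_assoc]
    rw [h1]
    rcases KFacts.SuzLarge.large.sq x x.2 with h | h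
    · rw [h, one_mul]
    · rw [h]; exact KFacts.SuzLarge.large.z_sq
  obtain ⟨P, hP⟩ := hQ0.exists_le_sylow
  have hV : IsPGroup 2 V := IsPGroup.of_card (n := 2) (by rw [card_V]; norm_num)
  obtain ⟨e⟩ := equiv_cent
  let K := Cfsg.Agent.CTwoTab.SuzPlane.PSL3
  let f : centralizer ((V : Subgroup Suz) : Set Suz) →* K :=
    (Cfsg.Agent.CTwoTab.SuzPlane.equiv.toMonoidHom.comp (MonoidHom.snd ↥V ↥L)).comp e.toMonoidHom
  have hf : Function.Surjective f := by
    intro k
    refine ⟨e.symm (1, Cfsg.Agent.CTwoTab.SuzPlane.equiv.symm k), ?_⟩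
    show Cfsg.Agent.CTwoTab.SuzPlane.equiv (e (e.symm (1, Cfsg.Agent.CTwoTab.SuzPlane.equiv.symm k))).2 = k
    rw [e.apply_symm_apply]
    exact Cfsg.Agent.CTwoTab.SuzPlane.equiv.apply_symm_apply k
  have hcK : Nat.card K = 20160 := Cfsg.Agent.CTwoTab.SuzPlane.card_PSL3
  have hfK : Finite K := Nat.finite_of_card_ne_zero (by rw [hcK]; norm_num)
  have hchar : CharP Cfsg.Agent.SporadicA.FieldFour.F4 2 :=
    CharTwo.of_one_ne_zero_of_two_eq_zero one_ne_zero (by decide)
  obtain ⟨χ, hχ, hχP⟩ := Cfsg.Agent.S2544.result (F := Cfsg.Agent.SporadicA.FieldFour.F4) 2 3 (by norm_num)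
  obtain ⟨T⟩ : Nonempty (Sylow 2 K) := inferInstance
  obtain ⟨s, hsT, hs1, hsi⟩ := exists_center_sylow (p := 2) (K := K) (by rw [hcK]; norm_num) T
  let x : centralizer ((V : Subgroup Suz) : Set Suz) := e.symm (1, Cfsg.Agent.CTwoTab.SuzPlane.equiv.symm s)
  have hex : e x = (1, Cfsg.Agent.CTwoTab.SuzPlane.equiv.symm s) := e.apply_symm_apply _
  have hfx : f x = s := by
    show Cfsg.Agent.CTwoTab.SuzPlane.equiv (e x).2 = s
    rw [hex]
    exact Cfsg.Agent.CTwoTab.SuzPlane.equiv.apply_symm_apply s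
  refine three_le_of_hom P (cent_sylow P hP) hV (by rw [card_V]; norm_num) f hf hχ (x := x) ?_
    (by rw [hfx]; exact hsi) (by rw [hfx]; exact (hχP T).2 s hsT hs1)
  intro y hy
  apply e.injective
  rw [map_mul, map_mul, hex]
  have h1 : (e y).2 * (e x).2 = (e x).2 * (e y).2 := by
    apply Cfsg.Agent.CTwoTab.SuzPlane.equiv.injective
    rw [map_mul, map_mul]
    exact hy
  rw [hex] at h1
  exact Prod.ext (by simp) h1

/-! ### `p = 3` -/

theorem nd_three : 3 ≤ ND 3 Suz := by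
  have hp3 : Fact (Nat.Prime 3) := ⟨Nat.prime_three⟩
  obtain ⟨g, hs, hk⟩ := Cfsg.Agent.H811.SuzCov.cov
  obtain ⟨F, i1, i2, hF, ⟨e⟩⟩ := Cfsg.Agent.H811.PsuH.psu
  have hcH := Cfsg.Agent.H812.FullSuz.fullP_H.2
  have hfH : Finite LThreeCo1Twelve.Gam.H := Nat.finite_of_card_ne_zero (by rw [hcH]; norm_num)
  have hchar : CharP F 3 := by
    obtain ⟨p, hp⟩ := CharP.exists F
    obtain ⟨n, hprime, hn⟩ := FiniteField.card F p
    rw [hF] at hn
    have h1 : p ∣ 3 ^ 2 := by
      rw [show (3 : ℕ) ^ 2 = 9 by norm_num, hn]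
      exact dvd_pow_self p n.ne_zero
    have h2 : p = 3 := (Nat.prime_dvd_prime_iff_eq hprime Nat.prime_three).1 (hprime.dvd_of_dvd_pow h1)
    rw [← h2]
    exact hp
  obtain ⟨χ, hχ, hχP⟩ := Cfsg.Agent.S2546.result (F := F) 3 4 3 (by norm_num) (by rw [hF]; norm_num)
  have hfP : Finite (PSU 4 F 3) := Finite.of_equiv _ e.toEquiv
  have hcP : Nat.card (PSU 4 F 3) = 3265920 := by rw [← Nat.card_congr e.toEquiv]; exact hcH
  have hidx := Cfsg.Agent.H812.FullSuz.index_y0
  have hcc : Nat.card (centralizer ({Cfsg.Agent.SuzThree.ThreeWr.y0} : Set Suz)) = 9797760 := by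
    have h1 := (centralizer ({Cfsg.Agent.SuzThree.ThreeWr.y0} : Set Suz)).card_mul_index
    rw [hidx, card_Suz] at h1
    generalize Nat.card (centralizer ({Cfsg.Agent.SuzThree.ThreeWr.y0} : Set Suz)) = n at h1 ⊢
    omega
  have h6 : (Nat.card (PSU 4 F 3)).factorization 3 = 6 := by
    rw [hcP]
    exact H852.IMJTwo.fac (m := 4480) Nat.prime_three (by norm_num) (by norm_num)
  have h7 : (Nat.card (centralizer ({Cfsg.Agent.SuzThree.ThreeWr.y0} : Set Suz))).factorization 3 = 7 := by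
    rw [hcc]
    exact H852.IMJTwo.fac (m := 4480) Nat.prime_three (by norm_num) (by norm_num)
  refine three_le_of_quotient Cfsg.Agent.CpAutSuz.Local.orderOf_y0 (by norm_num) (by rw [card_Suz]; norm_num)
    (K := PSU 4 F 3) (e.toMonoidHom.comp g) (e.surjective.comp hs) (by rw [h6, h7]) ⟨⟨χ, hχ⟩, ?_⟩
  obtain ⟨T⟩ : Nonempty (Sylow 3 (PSU 4 F 3)) := inferInstance
  have h8 : charDegree ((⟨χ, hχ⟩ : IrrCharacter (PSU 4 F 3)) : PSU 4 F 3 → ℂ) = 3 ^ 6 := by
    refine H670.PSing.charDegree_eq_of ?_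
    show χ 1 = _
    rw [(hχP T).1, T.card_eq_multiplicity, h6]
  rw [h8, h6, Nat.prime_three.factorization_pow, Finsupp.single_eq_same]

/-! ### `p = 5` -/

theorem nd_five : 3 ≤ ND 5 Suz := by
  have hp5 : Fact (Nat.Prime 5) := ⟨by norm_num⟩
  obtain ⟨P⟩ : Nonempty (Sylow 5 Suz) := inferInstance
  have hP25 : Nat.card (P : Subgroup Suz) = 25 := by
    have := J2Type.SylowSeven.card_sylow P 2 17933819904 (by rw [card_Suz]; norm_num) (by norm_num)
    rw [this]; norm_num
  obtain ⟨g, hg⟩ := J2Type.SylowFive.exists_conj_mem_sylow P (y := H812.SuzLoc.x5) (n := 1)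
    (by rw [H812.SuzLoc.order_x5]; norm_num)
  have hgood := H812.SuzFive.good_x5.conj g
  have h300 := H812.FiveKey.card_centralizer hP25 hgood hg
  obtain ⟨h5, hreal, V, hV, hsq, hVw, hc⟩ := hgood
  have hyp := J2Type.CentQuot.hyp_im (p := 5) (by decide) h5 hV hsq hVw hc
  have h60 : Nat.card (J2Type.CentQuot.CQ (g * H812.SuzLoc.x5 * g⁻¹)) = 60 := by
    have := J2Type.CentQuot.card_centralizer_eq (g * H812.SuzLoc.x5 * g⁻¹)
    rw [h300, h5] at this; omega
  obtain ⟨e⟩ := hyp.equiv_of_card_60 h60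
  have hfin : Finite (J2Type.CentQuot.CQ (g * H812.SuzLoc.x5 * g⁻¹)) :=
    Nat.finite_of_card_ne_zero (by rw [h60]; norm_num)
  exact three_le_of_cent h5 (by norm_num) (IM.of_quotient _ (H852.IMJTwo.im_five_alt e))
    (by rw [h300]; norm_num) (by rw [card_Suz]; norm_num)

/-! ### `p = 7`, `p = 11` -/

theorem nd_seven : 3 ≤ ND 7 Suz := by
  have hp7 : Fact (Nat.Prime 7) := ⟨by norm_num⟩
  obtain ⟨e⟩ := H812.SuzSeven.equiv_cent H812.SuzLoc.x7_mem H812.SuzLoc.order_x7
  have hord := H812.SuzLoc.order_x7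
  have hm : numCls 7 (zpowers H812.SuzLoc.x7) ≤ 4 := by
    have : Fintype (ConjClasses (alternatingGroup (Fin 4))) := Fintype.ofFinite _
    have h1 := numCls_le (p := 7) (zpowers H812.SuzLoc.x7) (ι := ConjClasses (alternatingGroup (Fin 4)))
      (fun C => e.symm (1, C.exists_rep.choose)) ?_
    · rwa [← Nat.card_eq_fintype_card, H717.SmallClass.conj_alt_four] at h1
    intro c hc
    refine ⟨ConjClasses.mk (e c).2, ?_⟩
    have h2 : (e c).1 = 1 := by
      have h3 : orderOf (e c).1 ∣ orderOf c := by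
        rw [← MulEquiv.orderOf_eq e c]
        exact orderOf_map_dvd (MonoidHom.fst _ _) (e c)
      have h4 : orderOf (e c).1 ∣ 7 := by
        have h5 := orderOf_dvd_natCard (e c).1
        rwa [Nat.card_congr Multiplicative.toAdd, Nat.card_zmod] at h5
      rcases (Nat.dvd_prime hp7.out).1 h4 with h5 | h5
      · exact orderOf_eq_one_iff.1 h5
      · rw [h5] at h3
        exact absurd h3 hc
    have h3 : IsConj (ConjClasses.mk (e c).2).exists_rep.choose (e c).2 :=
      ConjClasses.mk_eq_mk_iff_isConj.1 (ConjClasses.mk (e c).2).exists_rep.choose_spec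
    obtain ⟨d, hd⟩ := isConj_iff.1 h3
    refine isConj_iff.2 ⟨e.symm (1, d), ?_⟩
    apply e.injective
    rw [map_mul, map_mul, map_inv, e.apply_symm_apply, e.apply_symm_apply]
    exact Prod.ext (by simp [h2]) hd
  have h1 := regular_le (p := 7) (G := Suz)
    (by rw [card_Suz]; exact H852.IMJTwo.fac (n := 1) (m := 64049356800) (by norm_num) (by norm_num) (by norm_num))
    hord (e := 6) (m := 4)
    (Nat.le_of_dvd (by norm_num) (Cfsg.Agent.H724.IMTool.fus_card_dvd (by rw [← hord]; exact pow_orderOf_eq_one _)))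
    hm SuzFam.elt (SuzFam.not_dvd_orderOf (by norm_num) (by norm_num)) SuzFam.eq_of_conj
  rw [Fintype.card_fin] at h1
  omega

theorem nd_eleven : 3 ≤ ND 11 Suz := by
  have hp11 : Fact (Nat.Prime 11) := ⟨by norm_num⟩
  have hord := Cfsg.Agent.OddHalf.Table.OutSuz.order_x
  have hm : numCls 11 (zpowers Cfsg.Agent.OddHalf.Table.SuzRep.x) ≤ 1 := by
    have h1 := numCls_le (p := 11) (zpowers Cfsg.Agent.OddHalf.Table.SuzRep.x) (ι := Unit) (fun _ => 1) ?_
    · simpa using h1
    intro c hc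
    refine ⟨(), ?_⟩
    have h2 : (c : Suz) * Cfsg.Agent.OddHalf.Table.SuzRep.x = Cfsg.Agent.OddHalf.Table.SuzRep.x * c :=
      (mem_centralizer_iff.1 c.2 _ (mem_zpowers _)).symm
    obtain ⟨i, hi⟩ := Cfsg.Agent.OddHalf.Table.OutSuz.cent_x _ h2
    have h3 : c = 1 := by
      have h4 : orderOf (c : Suz) ∣ 11 := by
        rw [hi, ← hord]
        exact orderOf_pow_dvd i
      rcases (Nat.dvd_prime hp11.out).1 h4 with h5 | h5
      · exact Subtype.ext (orderOf_eq_one_iff.1 h5)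
      · rw [Subgroup.orderOf_coe] at h5
        exact absurd h5.symm.dvd hc
    rw [h3]
  have h1 := regular_le (p := 11) (G := Suz)
    (by rw [card_Suz]; exact H852.IMJTwo.fac (n := 1) (m := 40758681600) (by norm_num) (by norm_num) (by norm_num))
    hord (e := 10) (m := 1)
    (Nat.le_of_dvd (by norm_num) (Cfsg.Agent.H724.IMTool.fus_card_dvd (by rw [← hord]; exact pow_orderOf_eq_one _)))
    hm SuzFam.elt (SuzFam.not_dvd_orderOf (by norm_num) (by norm_num)) SuzFam.eq_of_conj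
  rw [Fintype.card_fin] at h1
  omega

/-- **The row `Suz`.** -/
theorem two_suz {S : Type u} [Group S] (h : Cfsg.Spor.IsoSuz S) {p : ℕ} [hp : Fact p.Prime]
    (hd : p ∣ Nat.card S) : TwoOr p S := by
  refine twoOr_of h hd fun hd => ?_
  have hM : Nat.card (Out Suz) ≤ 2 := Cfsg.Agent.S2074.result.le
  have h0 := prime_mem hp.out (L := [(13, 1), (11, 1), (7, 1), (5, 2), (3, 7), (2, 13)]) (by norm_num)
    (N := 448345497600) (by decide +kernel) (card_Suz ▸ hd)
  simp only [List.map_cons, List.map_nil, List.mem_cons, List.not_mem_nil, or_false] at h0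
  rcases h0 with rfl | rfl | rfl | rfl | rfl | rfl
  · obtain ⟨h1, h2⟩ := H672.SporIM.suz (K := Suz) ⟨MulEquiv.refl _⟩
    exact two_of_degs h1 h2 (by norm_num) (by norm_num) (by norm_num)
  · exact two_of_three hM nd_eleven
  · exact two_of_three hM nd_seven
  · exact two_of_three hM nd_five
  · exact two_of_three hM nd_three
  · exact two_of_three hM nd_two

end Cfsg.Agent.H299.Two.Suz
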